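import Cfsg.Agent.Mrg.Omega.IId.CvNS.Plug
import Cfsg.Agent.Mrg.Omega.IId.Ns.LemH
import Cfsg.Agent.Mrg.Omega.IId.Cv.Cut


/-!
# II.d, `CvNonsplit`, all `k, k'`

`nonsplit` : a mutual pair of natural members with at least three factors on both sides together is split on both sides;
`cvNonsplit : Cv.CvNonsplit K`.
-/

set_option autoImplicit false
set_option linter.unusedSectionVars false

namespace Cfsg.Agent.Omega.IId.CvNS.Plug

open Subgroup Cfsg Cfsg.Agent.ZN Cfsg.Agent.ZN.ChoiceSit Cfsg.Agent.ZN.ChoiceBase Cfsg.Agent.Omega.MinPar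
open Cfsg.Agent.Omega.FrameFF Cfsg.Agent.Omega.FFThm
open Cfsg.Agent.Omega.HOne.Main (vx SplitPar)
open Cfsg.Agent.Omega.IId.Cv Cfsg.Agent.Omega.IId.Ns
open Cfsg.Agent.Omega.FrameMulti (IsNat)

universe u

/-- (H1b) for `N_i` -/
theorem vz_of {G : Type u} [Group G] [Finite G] (hG : IsCharacteristicTwoType G) {S : Sylow 2 G} {P : Subgroup G}
    (h : IsParS (S : Subgroup G) P) {F : Type} [Field F] [Finite F] [CharP F 2] {k : ℕ}
    (M : NatK F (S : Subgroup G) P (zl (S : Subgroup G) P) (cv (S : Subgroup G) P) k) (hF : 4 ≤ Nat.card F) : VZ M :=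
  fun i hU => Rk.vz hG S h M hF i hU

/-- **Nonsplit, `k ≥ 2` or `k' ≥ 2`: impossible.** -/
theorem nonsplit {G : Type u} [Group G] [Finite G] (hG : IsCharacteristicTwoType G) {S S' : Sylow 2 G}
    {P P' : Subgroup G} (hp : Pair S S' P P') (hT : NoOver (zl (S : Subgroup G) P) P)
    (hT' : NoOver (zl (S' : Subgroup G) P') P') {k k' : ℕ} (hk : 1 ≤ k) (hk' : 1 ≤ k') (hkk : 2 ≤ k ∨ 2 ≤ k')
    (hM : IsNat (S : Subgroup G) P k) (hM' : IsNat (S' : Subgroup G) P' k')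
    (hs : ¬ (SplitPar (S : Subgroup G) P ∧ SplitPar (S' : Subgroup G) P')) : False :=
  nonsplit_of hG hp hT hT' hk hk' hkk hM hM' hs (fun F _ _ _ M hF => vz_of hG hp.star M hF)
    (fun F _ _ _ M hF => vz_of hG hp.star' M hF)

/-- **`CvNonsplit`** -/
theorem cvNonsplit {K : Cfsg.Agent.Omega.Frame.Cls.{u}} : Cv.CvNonsplit K := by
  intro G _ _ S S' hH P P' hp k k' hk hk' M M' hs
  exact (nonsplit hH.ctx.char2 hp (hH.typed' hp).1.noOver (hH.typed' hp).2.noOver (by omega) hk' (Or.inl hk)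
    M M' hs).elim

end Cfsg.Agent.Omega.IId.CvNS.Plug
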